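import Groth.Agent.StrictHens.QFinite
import Groth.Agent.Hens.Unique
import Mathlib.AlgebraicGeometry.Stalk
import Mathlib.AlgebraicGeometry.Pullbacks

/-!
Strict henselizations at points of fibre products of schemes.
-/

set_option autoImplicit false
universe u

open IsLocalRing CategoryTheory CategoryTheory.Limits AlgebraicGeometry TensorProduct

namespace Groth.Agent.StrictHens.SchemeBC

open Basic

/-- A strict henselization maps to every local ring over the base which is henselian with separably closed
residue field. -/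
theorem exists_hom {A S T : Type u} [CommRing A] [IsLocalRing A] [CommRing S] [IsLocalRing S] [Algebra A S]
    [IsLocalHom (algebraMap A S)] [hS : Hensel.IsStrictHenselization A S] [CommRing T] [HenselianLocalRing T]
    [IsSepClosed (ResidueField T)] (f : A →+* T) [IsLocalHom f] :
    ∃ g : S →+* T, IsLocalHom g ∧ g.comp (algebraMap A S) = f := by
  letI : Algebra (ResidueField A) (ResidueField T) := (ResidueField.map f).toAlgebra
  have := hS.isSepClosure.separable
  let τ : ResidueField S →ₐ[ResidueField A] ResidueField T := IsSepClosed.lift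
  obtain ⟨g, ⟨hg, hgr⟩, -⟩ :=
    (isSH_of_isStrictHenselization (A := A) (S := S)).lift T f τ.toRingHom fun a => τ.commutes (residue A a)
  refine ⟨g, ⟨fun x hx => ?_⟩, hg⟩
  rw [← residue_ne_zero_iff_isUnit]
  intro h0
  exact (hx.map (residue T)).ne_zero (by rw [hgr, h0, map_zero])

/-- Local homomorphisms out of a stalk are determined by the morphism of schemes they induce. -/
theorem stalk_hom_ext {X : Scheme.{u}} {R : CommRingCat.{u}} [IsLocalRing R] {x : X}
    (a b : X.presheaf.stalk x ⟶ R) [IsLocalHom a.hom] [IsLocalHom b.hom]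
    (h : Spec.map a ≫ X.fromSpecStalk x = Spec.map b ≫ X.fromSpecStalk x) : a = b := by
  refine TopCat.Presheaf.stalk_hom_ext _ fun U hxU => ?_
  have hU : (Spec.map a ≫ X.fromSpecStalk x) (closedPoint R) ∈ U := by
    rw [Scheme.Hom.comp_apply, Spec_closedPoint, Scheme.fromSpecStalk_closedPoint]
    exact hxU
  have h2 : ∀ {p q : Spec R ⟶ X} (_ : p = q) (hp : p (closedPoint R) ∈ U) (hq : q (closedPoint R) ∈ U),
      X.presheaf.germ U _ hp ≫ Scheme.stalkClosedPointTo p =
        X.presheaf.germ U _ hq ≫ Scheme.stalkClosedPointTo q := by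
    rintro p q rfl _ _; rfl
  rw [← Scheme.germ_stalkClosedPointTo_Spec_fromSpecStalk a U hU,
    ← Scheme.germ_stalkClosedPointTo_Spec_fromSpecStalk b U (h ▸ hU)]
  exact h2 h _ _

/-- A morphism from the spectrum of a local ring factors through the stalk at the image of the closed
point. -/
theorem exists_stalk_hom {X : Scheme.{u}} {R : CommRingCat.{u}} [IsLocalRing R] {x : X}
    (p : Spec R ⟶ X) (hx : p (closedPoint R) = x) :
    ∃ φ : X.presheaf.stalk x ⟶ R, IsLocalHom φ.hom ∧ Spec.map φ ≫ X.fromSpecStalk x = p := by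
  subst hx
  exact ⟨Scheme.stalkClosedPointTo p, inferInstance, Scheme.Spec_stalkClosedPointTo_fromSpecStalk p⟩

variable {X S S' : Scheme.{u}} (f : X ⟶ S) (g : S' ⟶ S)

/-- The map `O_{S, f x} → O_{S', s'}` at a point of the fibre product. -/
noncomputable def baseMap (x' : ↥(pullback f g)) :
    S.presheaf.stalk (f (pullback.fst f g x')) ⟶ S'.presheaf.stalk (pullback.snd f g x') :=
  (S.presheaf.stalkCongr (.of_eq (by
    rw [← Scheme.Hom.comp_apply, ← Scheme.Hom.comp_apply, pullback.condition]))).hom ≫
    g.stalkMap (pullback.snd f g x')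

instance (x' : ↥(pullback f g)) : IsLocalHom (baseMap f g x').hom :=
  inferInstanceAs <| IsLocalHom ((S.presheaf.stalkCongr _).hom ≫ g.stalkMap _).hom

theorem SpecMap_baseMap (x' : ↥(pullback f g)) :
    Spec.map (baseMap f g x') ≫ S.fromSpecStalk _ = S'.fromSpecStalk _ ≫ g := by
  rw [baseMap, Spec.map_comp, Category.assoc, TopCat.Presheaf.stalkCongr_hom,
    Scheme.SpecMap_stalkSpecializes_fromSpecStalk, Scheme.SpecMap_stalkMap_fromSpecStalk]

theorem baseMap_comm (x' : ↥(pullback f g)) :
    f.stalkMap (pullback.fst f g x') ≫ (pullback.fst f g).stalkMap x' =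
      baseMap f g x' ≫ (pullback.snd f g).stalkMap x' := by
  apply stalk_hom_ext
  simp only [Spec.map_comp, Category.assoc, Scheme.SpecMap_stalkMap_fromSpecStalk, SpecMap_baseMap]
  rw [Scheme.SpecMap_stalkMap_fromSpecStalk_assoc, Scheme.SpecMap_stalkMap_fromSpecStalk_assoc,
    pullback.condition]

/-- Strict henselizations commute with a base change along which they are integral. -/
theorem bijective_lift (x' : ↥(pullback f g)) {RS RX RS' RX' : Type u}
    [CommRing RS] [IsLocalRing RS] [CommRing RX] [IsLocalRing RX] [CommRing RS'] [IsLocalRing RS']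
    [CommRing RX'] [IsLocalRing RX']
    [Algebra (X.presheaf.stalk (pullback.fst f g x')) RX]
    [IsLocalHom (algebraMap (X.presheaf.stalk (pullback.fst f g x')) RX)]
    [Algebra (S'.presheaf.stalk (pullback.snd f g x')) RS']
    [IsLocalHom (algebraMap (S'.presheaf.stalk (pullback.snd f g x')) RS')]
    [Algebra ((pullback f g).presheaf.stalk x') RX']
    [IsLocalHom (algebraMap ((pullback f g).presheaf.stalk x') RX')]
    [Algebra (S.presheaf.stalk (f (pullback.fst f g x'))) RS]
    [Algebra RS RS'] [Algebra RS RX] [Algebra RS RX'] [Algebra RS' RX'] [Algebra RX RX']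
    [IsScalarTower RS RS' RX'] [IsScalarTower RS RX RX']
    [IsLocalHom (algebraMap RS RS')] [IsLocalHom (algebraMap RS RX)] [IsLocalHom (algebraMap RS' RX')]
    [IsLocalHom (algebraMap RX RX')] [IsSepClosed (ResidueField RS)] [Algebra.IsIntegral RS RS']
    (hRS' : IsSH (S'.presheaf.stalk (pullback.snd f g x')) RS')
    (hRX : IsSH (X.presheaf.stalk (pullback.fst f g x')) RX)
    (hRX' : IsSH ((pullback f g).presheaf.stalk x') RX')
    (h1 : ∀ a, algebraMap RS RS' (algebraMap _ RS a) =
      algebraMap (S'.presheaf.stalk (pullback.snd f g x')) RS' ((baseMap f g x').hom a))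
    (h2 : ∀ a, algebraMap RS RX (algebraMap _ RS a) =
      algebraMap (X.presheaf.stalk (pullback.fst f g x')) RX ((f.stalkMap (pullback.fst f g x')).hom a))
    (h3 : ∀ b, algebraMap ((pullback f g).presheaf.stalk x') RX' (((pullback.snd f g).stalkMap x').hom b) =
      algebraMap RS' RX' (algebraMap _ RS' b))
    (h4 : ∀ c, algebraMap ((pullback f g).presheaf.stalk x') RX' (((pullback.fst f g).stalkMap x').hom c) =
      algebraMap RX RX' (algebraMap _ RX c)) :
    Function.Bijective (Algebra.TensorProduct.lift (IsScalarTower.toAlgHom RS RS' RX')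
      (IsScalarTower.toAlgHom RS RX RX') fun _ _ => Commute.all _ _) := by
  refine Tensor.bijective_of_isIntegral hRS' hRX hRX' ((pullback.snd f g).stalkMap x').hom h3
    ((pullback.fst f g).stalkMap x').hom h4 fun h hP hhloc hhT hhU => ?_
  let P : CommRingCat.{u} := CommRingCat.of (RS' ⊗[RS] RX)
  let W : CommRingCat.{u} := CommRingCat.of RX'
  have : IsLocalRing P := hP
  have : IsLocalRing W := ‹IsLocalRing RX'›
  let φX : X.presheaf.stalk (pullback.fst f g x') ⟶ P :=
    CommRingCat.ofHom (((Algebra.TensorProduct.includeRight : RX →ₐ[RS] RS' ⊗[RS] RX).toRingHom).comp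
      (algebraMap (X.presheaf.stalk (pullback.fst f g x')) RX))
  let φS : S'.presheaf.stalk (pullback.snd f g x') ⟶ P :=
    CommRingCat.ofHom ((Algebra.TensorProduct.includeLeftRingHom : RS' →+* RS' ⊗[RS] RX).comp
      (algebraMap (S'.presheaf.stalk (pullback.snd f g x')) RS'))
  have hcomm : f.stalkMap (pullback.fst f g x') ≫ φX = baseMap f g x' ≫ φS := by
    ext a
    show (1 : RS') ⊗ₜ[RS] algebraMap _ RX ((f.stalkMap (pullback.fst f g x')).hom a) =
      algebraMap _ RS' ((baseMap f g x').hom a) ⊗ₜ[RS] (1 : RX)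
    rw [← h1, ← h2, Algebra.TensorProduct.tmul_one_eq_one_tmul]
  let p : Spec P ⟶ pullback f g := pullback.lift (Spec.map φX ≫ X.fromSpecStalk _)
    (Spec.map φS ≫ S'.fromSpecStalk _) (by
      rw [Category.assoc, Category.assoc, ← Scheme.SpecMap_stalkMap_fromSpecStalk,
        ← SpecMap_baseMap, ← Spec.map_comp_assoc, ← Spec.map_comp_assoc, hcomm])
  let ω : (pullback f g).presheaf.stalk x' ⟶ W :=
    CommRingCat.ofHom (algebraMap ((pullback f g).presheaf.stalk x') RX')
  let hP' : P ⟶ W := CommRingCat.ofHom h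
  have : IsLocalHom hP'.hom := hhloc
  have hX : φX ≫ hP' = (pullback.fst f g).stalkMap x' ≫ ω := by
    ext c
    exact (hhU _).trans (h4 c).symm
  have hS' : φS ≫ hP' = (pullback.snd f g).stalkMap x' ≫ ω := by
    ext b
    exact (hhT _).trans (h3 b).symm
  have hp : Spec.map hP' ≫ p = Spec.map ω ≫ (pullback f g).fromSpecStalk x' := by
    refine pullback.hom_ext ?_ ?_
    · rw [Category.assoc, pullback.lift_fst, ← Spec.map_comp_assoc, hX, Spec.map_comp_assoc,
        Scheme.SpecMap_stalkMap_fromSpecStalk, Category.assoc]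
    · rw [Category.assoc, pullback.lift_snd, ← Spec.map_comp_assoc, hS', Spec.map_comp_assoc,
        Scheme.SpecMap_stalkMap_fromSpecStalk, Category.assoc]
  have : IsLocalHom ω.hom := ‹IsLocalHom (algebraMap ((pullback f g).presheaf.stalk x') RX')›
  have hx : p (closedPoint P) = x' := by
    have := congrArg (fun q => q (closedPoint W)) hp
    simp only [Scheme.Hom.comp_apply, Spec_closedPoint, Scheme.fromSpecStalk_closedPoint] at this
    exact this
  obtain ⟨φ, hφ, hφp⟩ := exists_stalk_hom p hx
  have hφX : (pullback.fst f g).stalkMap x' ≫ φ = φX := by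
    have : IsLocalHom φX.hom := ⟨fun c hc => by
      refine isUnit_of_map_unit (algebraMap _ RX) c (isUnit_of_map_unit (algebraMap RX RX') _ ?_)
      rw [← hhU]
      exact hc.map h⟩
    have : IsLocalHom ((pullback.fst f g).stalkMap x' ≫ φ).hom := by
      rw [CommRingCat.hom_comp]; exact RingHom.isLocalHom_comp _ _
    refine stalk_hom_ext _ _ ?_
    rw [Spec.map_comp_assoc, Scheme.SpecMap_stalkMap_fromSpecStalk, ← Category.assoc, hφp, pullback.lift_fst]
  have hφS : (pullback.snd f g).stalkMap x' ≫ φ = φS := by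
    have : IsLocalHom φS.hom := ⟨fun c hc => by
      refine isUnit_of_map_unit (algebraMap _ RS') c (isUnit_of_map_unit (algebraMap RS' RX') _ ?_)
      rw [← hhT]
      exact hc.map h⟩
    have : IsLocalHom ((pullback.snd f g).stalkMap x' ≫ φ).hom := by
      rw [CommRingCat.hom_comp]; exact RingHom.isLocalHom_comp _ _
    refine stalk_hom_ext _ _ ?_
    rw [Spec.map_comp_assoc, Scheme.SpecMap_stalkMap_fromSpecStalk, ← Category.assoc, hφp, pullback.lift_snd]
  have : IsLocalHom (φ ≫ hP').hom := by rw [CommRingCat.hom_comp]; exact RingHom.isLocalHom_comp _ _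
  have hφω : φ ≫ hP' = ω := stalk_hom_ext _ _ (by rw [Spec.map_comp_assoc, hφp, hp])
  exact ⟨φ.hom, fun b => congrArg (fun k => k.hom b) hφS, fun c => congrArg (fun k => k.hom c) hφX,
    fun d => congrArg (fun k => k.hom d) hφω⟩

end Groth.Agent.StrictHens.SchemeBC
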