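import Groth.Agent.Hensel.Pair
import Groth.Agent.Hensel.Local
import Groth.Prelude.Def_Hensel
import Mathlib.FieldTheory.IsSepClosed
import Mathlib.FieldTheory.PurelyInseparable.Basic
import Mathlib.FieldTheory.PurelyInseparable.Tower
import Mathlib.RingTheory.Localization.AtPrime.Basic
import Mathlib.RingTheory.IntegralClosure.Algebra.Basic

/-!
Strict henselizations relative to an arbitrary ring mapping to the local ring (`IsSH`).
-/

set_option autoImplicit false
universe u

open IsLocalRing

namespace Groth.Agent.StrictHens.Basic

/-- If `K` is separably closed, a field map whose restriction to a subring generating a separable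
extension factors through `σ : K → L` factors through `σ`. -/
theorem mem_range {K L k : Type u} [Field K] [Field L] [Field k] [IsSepClosed K] (σ : K →+* L)
    (τ : k →+* L) (x : k) (h : ∀ K' : Subfield k, (∀ y, τ y ∈ σ.fieldRange → y ∈ K') → IsSeparable K' x) :
    τ x ∈ σ.fieldRange := by
  let K' : Subfield k := σ.fieldRange.comap τ
  have hx := h K' fun y hy => hy
  let ψ : K' →+* K := (RingEquiv.ofBijective σ.rangeRestrictField σ.rangeRestrictField_bijective).symm.toRingHom.comp
    ((τ.comp K'.subtype).codRestrict σ.fieldRange fun y => y.2)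
  have hψ : ∀ y, σ (ψ y) = τ y := fun y => congrArg Subtype.val
    ((RingEquiv.ofBijective σ.rangeRestrictField σ.rangeRestrictField_bijective).apply_symm_apply
      ⟨τ y.1, y.2⟩)
  letI : Algebra K L := σ.toAlgebra
  let p := (minpoly K' x).map ψ
  have hp : p.Separable := Polynomial.Separable.map hx
  have hroot : Polynomial.aeval (τ x) p = 0 := by
    have h0 := congrArg τ (minpoly.aeval K' x)
    rw [Polynomial.aeval_def, Polynomial.hom_eval₂, map_zero] at h0
    rw [Polynomial.aeval_def, Polynomial.eval₂_map, ← h0]
    exact congrArg (Polynomial.eval₂ · (τ x) _) (RingHom.ext hψ)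
  have hsep : IsSeparable K (τ x) := Polynomial.Separable.of_dvd hp (minpoly.dvd K (τ x) hroot)
  have hi : IsIntegral K (τ x) := hsep.isIntegral
  obtain ⟨y, hy⟩ := minpoly.mem_range_of_degree_eq_one K (τ x)
    (IsSepClosed.degree_eq_one_of_irreducible K (minpoly.irreducible hi) hsep)
  exact ⟨y, hy⟩

/-- `S` is a strict henselization of the localization of `A` at the prime it pulls back. -/
structure IsSH (A S : Type u) [CommRing A] [CommRing S] [IsLocalRing S] [Algebra A S] : Prop where
  henselian : HenselianLocalRing S
  sepClosed : IsSepClosed (ResidueField S)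
  sep : ∀ (K : Subfield (ResidueField S)), (∀ a, residue S (algebraMap A S a) ∈ K) →
    ∀ x : ResidueField S, IsSeparable K x
  lift : ∀ (T : Type u) [CommRing T] [HenselianLocalRing T] (f : A →+* T)
    (τ : ResidueField S →+* ResidueField T),
    (∀ a, τ (residue S (algebraMap A S a)) = residue T (f a)) →
    ∃! g : S →+* T, g.comp (algebraMap A S) = f ∧ ∀ x, residue T (g x) = τ (residue S x)

variable {A S : Type u} [CommRing A] [CommRing S] [IsLocalRing S] [Algebra A S]

theorem isSH_of_isStrictHenselization [IsLocalRing A] [IsLocalHom (algebraMap A S)]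
    [hS : Hensel.IsStrictHenselization A S] : IsSH A S := by
  refine ⟨hS.henselian, hS.isSepClosure.sep_closed, fun K hK x => ?_, fun T _ _ f τ hτ => ?_⟩
  · have := hS.isSepClosure.separable
    let φ : ResidueField A →+* K :=
      (algebraMap (ResidueField A) (ResidueField S)).codRestrict K fun y => by
        obtain ⟨a, rfl⟩ := residue_surjective y
        exact hK a
    letI : Algebra (ResidueField A) K := φ.toAlgebra
    have : IsScalarTower (ResidueField A) K (ResidueField S) := .of_algebraMap_eq fun _ => rfl
    exact IsSeparable.tower_top K (Algebra.IsSeparable.isSeparable (ResidueField A) x)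
  · have : IsLocalHom f := ⟨fun a ha => by
      refine isUnit_of_map_unit (algebraMap A S) a ?_
      by_contra hu
      have h0 : residue S (algebraMap A S a) = 0 := (residue_eq_zero_iff _).2 hu
      exact (ha.map (residue T)).ne_zero (by rw [← hτ, h0, map_zero])⟩
    refine hS.universal T f τ (RingHom.ext fun y => ?_)
    obtain ⟨a, rfl⟩ := residue_surjective y
    exact hτ a

namespace IsSH

theorem of_localization {A' : Type u} [CommRing A'] [Algebra A A'] [Algebra A' S]
    [IsScalarTower A A' S] (M : Submonoid A) [IsLocalization M A'] (h : IsSH A' S) : IsSH A S := by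
  refine ⟨h.henselian, h.sepClosed, fun K hK x => h.sep K (fun a' => ?_) x, fun T _ _ f τ hτ => ?_⟩
  · obtain ⟨⟨a, m⟩, hm⟩ := IsLocalization.surj M a'
    have h1 := congrArg (fun t => residue S (algebraMap A' S t)) hm
    simp only [map_mul, ← IsScalarTower.algebraMap_apply] at h1
    have hne : residue S (algebraMap A S m) ≠ 0 := by
      rw [IsScalarTower.algebraMap_apply A A' S]
      exact ((IsLocalization.map_units A' m).map _ |>.map (residue S)).ne_zero
    rw [show residue S (algebraMap A' S a') = residue S (algebraMap A S a) * (residue S (algebraMap A S m))⁻¹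
      from (eq_mul_inv_iff_mul_eq₀ hne).2 h1]
    exact K.mul_mem (hK a) (K.inv_mem (hK _))
  · have hu : ∀ m : M, IsUnit (f m) := fun m => by
      rw [← residue_ne_zero_iff_isUnit, ← hτ, IsScalarTower.algebraMap_apply A A' S]
      exact (map_ne_zero τ).2 ((IsLocalization.map_units A' m).map _ |>.map (residue S)).ne_zero
    let f' : A' →+* T := IsLocalization.lift hu
    obtain ⟨g, ⟨hg, hgr⟩, huniq⟩ := h.lift T f' τ fun a' => by
      refine congrFun (congrArg DFunLike.coe (IsLocalization.ringHom_ext M
        (j := τ.comp ((residue S).comp (algebraMap A' S))) (k := (residue T).comp f') (RingHom.ext fun a => ?_))) a'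
      simp only [RingHom.comp_apply, ← IsScalarTower.algebraMap_apply, hτ, f', IsLocalization.lift_eq]
    refine ⟨g, ⟨RingHom.ext fun a => ?_, hgr⟩, fun g' ⟨hg', hgr'⟩ => huniq g' ⟨?_, hgr'⟩⟩
    · rw [RingHom.comp_apply, IsScalarTower.algebraMap_apply A A' S]
      exact (RingHom.congr_fun hg _).trans (IsLocalization.lift_eq hu a)
    · refine IsLocalization.ringHom_ext M (RingHom.ext fun a => ?_)
      simp only [RingHom.comp_apply, ← IsScalarTower.algebraMap_apply, f', IsLocalization.lift_eq]
      exact RingHom.congr_fun hg' a

/-- Local maps out of a strict henselization are determined by the base and by residue fields. -/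
theorem hom_ext (h : IsSH A S) {T : Type u} [CommRing T] [HenselianLocalRing T] {g g' : S →+* T}
    [IsLocalHom g] (h₁ : ∀ a, g (algebraMap A S a) = g' (algebraMap A S a))
    (h₂ : ∀ x, residue T (g' x) = residue T (g x)) : g = g' := by
  obtain ⟨w, -, hw⟩ := h.lift T (g.comp (algebraMap A S)) (ResidueField.map g) fun _ => rfl
  exact (hw g ⟨rfl, fun _ => rfl⟩).trans (hw g' ⟨RingHom.ext fun a => (h₁ a).symm, h₂⟩).symm

/-- A residue map whose image contains the base and whose source is separably closed is surjective. -/
theorem mem_range (h : IsSH A S) {K L : Type u} [Field K] [Field L] [IsSepClosed K] (σ : K →+* L)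
    (τ : ResidueField S →+* L) (hA : ∀ a, τ (residue S (algebraMap A S a)) ∈ σ.fieldRange)
    (x : ResidueField S) : τ x ∈ σ.fieldRange :=
  Basic.mem_range σ τ x fun K' hK' => h.sep K' (fun a => hK' _ (hA a)) x

/-- Existence of local maps along a separably closed residue subfield. -/
theorem exists_lift (h : IsSH A S) {P W : Type u} [CommRing P] [HenselianLocalRing P]
    [CommRing W] [IsLocalRing W] [IsSepClosed (ResidueField P)]
    (g : P →+* W) [IsLocalHom g] (w : S →+* W) [IsLocalHom w] (f : A →+* P)
    (hf : ∀ a, residue W (g (f a)) = residue W (w (algebraMap A S a))) :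
    ∃ k : S →+* P, IsLocalHom k ∧ k.comp (algebraMap A S) = f ∧
      ∀ x, residue W (g (k x)) = residue W (w x) := by
  have hrange : ∀ x, ResidueField.map w x ∈ (ResidueField.map g).fieldRange :=
    h.mem_range (ResidueField.map g) (ResidueField.map w) fun a => ⟨residue P (f a), hf a⟩
  let τ : ResidueField S →+* ResidueField P :=
    (RingEquiv.ofBijective (ResidueField.map g).rangeRestrictField
      (ResidueField.map g).rangeRestrictField_bijective).symm.toRingHom.comp
      ((ResidueField.map w).codRestrict (ResidueField.map g).fieldRange hrange)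
  have hτ : ∀ x, ResidueField.map g (τ x) = ResidueField.map w x := fun x => congrArg Subtype.val
    ((RingEquiv.ofBijective (ResidueField.map g).rangeRestrictField
      (ResidueField.map g).rangeRestrictField_bijective).apply_symm_apply ⟨_, hrange x⟩)
  obtain ⟨k, ⟨hk, hkr⟩, -⟩ := h.lift P f τ fun a =>
    (ResidueField.map g).injective ((hτ _).trans (hf a).symm)
  refine ⟨k, ⟨fun x hx => ?_⟩, hk, fun x => ?_⟩
  · rw [← residue_ne_zero_iff_isUnit]
    intro h0
    exact (hx.map (residue P)).ne_zero (by rw [hkr, h0, map_zero])
  · show ResidueField.map g (residue P (k x)) = _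
    rw [hkr, hτ]
    rfl

end IsSH

section Integral

/-- A local ring integral over a henselian local ring is henselian. -/
theorem henselianLocalRing_of_integral {R T : Type u} [CommRing R] [HenselianLocalRing R]
    [CommRing T] [IsLocalRing T] [Algebra R T] [Algebra.IsIntegral R T] : HenselianLocalRing T := by
  have := Groth.Agent.Hensel.henselianRing_maximalIdeal R
  have h1 := Hensel.henselianRing_of_isIntegral (A := R) (I := maximalIdeal R) T
  have h2 := Hensel.henselianRing_radical (A := T) (I := (maximalIdeal R).map (algebraMap R T))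
  refine Hensel.henselianLocalRing_of_henselianRing ?_
  rwa [show maximalIdeal T = ((maximalIdeal R).map (algebraMap R T)).radical from ?_]
  rw [Ideal.radical_eq_sInf]
  refine le_antisymm (le_sInf fun J hJ => ?_) (sInf_le ⟨?_, inferInstance⟩)
  · have := hJ.2
    refine le_of_eq (IsLocalRing.eq_maximalIdeal ?_).symm
    refine Ideal.isMaximal_of_isIntegral_of_isMaximal_comap (R := R) J ?_
    have : J.comap (algebraMap R T) = maximalIdeal R :=
      ((maximalIdeal.isMaximal R).eq_of_le (Ideal.comap_ne_top _ hJ.2.ne_top)
        (Ideal.map_le_iff_le_comap.1 hJ.1)).symm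
    rw [this]
    exact maximalIdeal.isMaximal R
  · rw [Ideal.map_le_iff_le_comap]
    exact ((IsLocalRing.eq_maximalIdeal
      (Ideal.isMaximal_comap_of_isIntegral_of_isMaximal (R := R) (maximalIdeal T)))).ge

end Integral

end Groth.Agent.StrictHens.Basic
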