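import Groth.Agent.StrictHens.SchemeBC
import Groth.Agent.EtaleSite.HpullComp
import Groth.Agent.EtaleSite.Pull
import Groth.Prelude.Def_EtRestW
import Mathlib.AlgebraicGeometry.Morphisms.QuasiFinite
import Mathlib.AlgebraicGeometry.Morphisms.Integral

/-!
Local acyclicity is stable under base changes along which strict henselizations are integral.
-/

set_option autoImplicit false
universe u

open IsLocalRing CategoryTheory CategoryTheory.Limits AlgebraicGeometry TensorProduct

namespace Groth.Agent.StrictHens.Acyclic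

open Basic

/-- Cohomology with constant coefficients is invariant under isomorphisms of schemes. -/
theorem nonempty_H_const_addEquiv {Y Z : Scheme.{u}} (e : Y ≅ Z) (M : Type) [AddCommGroup M] (q : ℕ) :
    Nonempty (EtCoh.H Z (EtCoh.const Z M) q ≃+ EtCoh.H Y (EtCoh.const Y M) q) := by
  let a := AddEquiv.ofBijective (EtCore.Hpull e.hom (EtCoh.const Z M) q)
    (EtaleSite.HpullComp.Hpull_bijective_of_isIso e.hom q _)
  exact ⟨a.trans ((EtCoh.HF Y q).mapIso (EtCore.pullConst e.hom M)).addCommGroupIsoToAddEquiv⟩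

/-- `g` has integral strict local rings: strict henselizations of `S'` are integral over those of `S`. -/
def HasIntegralStrictStalks {S S' : Scheme.{u}} (g : S' ⟶ S) : Prop :=
  ∀ (s' : S') (RS RS' : Type u) [CommRing RS] [HenselianLocalRing RS] [IsSepClosed (ResidueField RS)]
    [CommRing RS'] [IsLocalRing RS'] [Algebra RS RS'] [IsLocalHom (algebraMap RS RS')]
    [Algebra (S'.presheaf.stalk s') RS'] (α : S.presheaf.stalk (g s') →+* RS),
    IsSH (S'.presheaf.stalk s') RS' →
    (∀ a, algebraMap RS RS' (α a) = algebraMap (S'.presheaf.stalk s') RS' ((g.stalkMap s').hom a)) →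
    Algebra.IsIntegral RS RS'

theorem isLocallyAcyclic_snd {X S S' : Scheme.{u}} (f : X ⟶ S) (g : S' ⟶ S)
    (hf : EtRest.IsLocallyAcyclic f) (hg : HasIntegralStrictStalks g) :
    EtRest.IsLocallyAcyclic (pullback.snd f g) := by
  intro x' RS' RX' _ _ _ _ _ _ hS' _ _ hX' _ _ hc Ω _ _ _ n hn
  have hS'H := hS'.henselian
  have hX'H := hX'.henselian
  have hX'sep := hX'.isSepClosure.sep_closed
  have hS'sep := hS'.isSepClosure.sep_closed
  let x := pullback.fst f g x'
  let OS := S.presheaf.stalk (f x)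
  let OX := X.presheaf.stalk x
  let RS := Hens.StrictHenselization ↑OS
  let RX := Hens.StrictHenselization ↑OX
  let RSinst : Hensel.IsStrictHenselization ↑OS RS := inferInstance
  let RXinst : Hensel.IsStrictHenselization ↑OX RX := inferInstance
  have : IsSepClosed (ResidueField RS) := RSinst.isSepClosure.sep_closed
  have : IsSepClosed (ResidueField RX) := RXinst.isSepClosure.sep_closed
  let c : RS' →+* RX' := algebraMap RS' RX'
  obtain ⟨a, haloc, ha⟩ := SchemeBC.exists_hom (S := RS)
    ((algebraMap (S'.presheaf.stalk (pullback.snd f g x')) RS').comp (SchemeBC.baseMap f g x').hom)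
  have : IsLocalHom ((algebraMap ((pullback f g).presheaf.stalk x') RX').comp
    ((pullback.fst f g).stalkMap x').hom) := RingHom.isLocalHom_comp _ _
  obtain ⟨w, hwloc, hw⟩ := SchemeBC.exists_hom (S := RX)
    ((algebraMap ((pullback f g).presheaf.stalk x') RX').comp ((pullback.fst f g).stalkMap x').hom)
  have hkey : ∀ z : OS, w (algebraMap OX RX ((f.stalkMap x).hom z)) = c (a (algebraMap OS RS z)) := fun z => by
    rw [show a (algebraMap OS RS z) = _ from RingHom.congr_fun ha z]
    refine (RingHom.congr_fun hw _).trans ?_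
    refine (congrArg (fun k => algebraMap ((pullback f g).presheaf.stalk x') RX' (k.hom z))
      (SchemeBC.baseMap_comm f g x')).trans ?_
    exact (RingHom.congr_fun hc _).symm
  have : IsLocalHom (c.comp a) := RingHom.isLocalHom_comp _ _
  obtain ⟨b, hbloc, hb, hbr⟩ := (isSH_of_isStrictHenselization (A := ↑OS) (S := RS)).exists_lift w
    (c.comp a) ((algebraMap OX RX).comp (f.stalkMap x).hom) fun z => congrArg _ (hkey z)
  have hwb : ∀ z, c (a z) = w (b z) := fun z => RingHom.congr_fun
    ((isSH_of_isStrictHenselization (A := ↑OS) (S := RS)).hom_ext (g := c.comp a) (g' := w.comp b)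
      (fun z => ((congrArg w (RingHom.congr_fun hb z)).trans (hkey z)).symm) hbr) z
  letI : Algebra RS RS' := a.toAlgebra
  letI : Algebra RS RX := b.toAlgebra
  letI : Algebra RS RX' := (c.comp a).toAlgebra
  letI : Algebra RX RX' := w.toAlgebra
  have : IsScalarTower RS RS' RX' := .of_algebraMap_eq fun _ => rfl
  have : IsScalarTower RS RX RX' := .of_algebraMap_eq hwb
  have : IsLocalHom (algebraMap RS RS') := haloc
  have : IsLocalHom (algebraMap RS RX) := hbloc
  have : IsLocalHom (algebraMap RX RX') := hwloc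
  have hs : g (pullback.snd f g x') = f x := by
    rw [← Scheme.Hom.comp_apply, ← Scheme.Hom.comp_apply, pullback.condition]
  have hint : Algebra.IsIntegral RS RS' := by
    refine hg (pullback.snd f g x') RS RS'
      ((algebraMap OS RS).comp (S.presheaf.stalkCongr (.of_eq hs)).hom.hom)
      isSH_of_isStrictHenselization fun z => ?_
    refine (RingHom.congr_fun ha _).trans ?_
    have hcomp : (S.presheaf.stalkCongr (.of_eq hs)).hom ≫ SchemeBC.baseMap f g x' =
        g.stalkMap (pullback.snd f g x') := by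
      refine TopCat.Presheaf.stalk_hom_ext _ fun U hU => ?_
      simp [SchemeBC.baseMap]
    exact congrArg (fun k => algebraMap (S'.presheaf.stalk (pullback.snd f g x')) RS' (k.hom z)) hcomp
  have hbij := SchemeBC.bijective_lift f g x' (RS := RS) (RX := RX) (RS' := RS') (RX' := RX')
    isSH_of_isStrictHenselization isSH_of_isStrictHenselization isSH_of_isStrictHenselization
    (fun z => RingHom.congr_fun ha z) (fun z => RingHom.congr_fun hb z)
    (fun z => (RingHom.congr_fun hc z).symm) (fun z => (RingHom.congr_fun hw z).symm)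
  letI algΩ : Algebra RS Ω := ((algebraMap RS' Ω).comp a).toAlgebra
  have : IsScalarTower RS RS' Ω := .of_algebraMap_eq fun _ => rfl
  let L : RS' ⊗[RS] RX →ₐ[RS'] RX' := Algebra.TensorProduct.lift (Algebra.ofId RS' RX')
    (IsScalarTower.toAlgHom RS RX RX') fun _ _ => Commute.all _ _
  let P : RS' ⊗[RS] RX ≃ₐ[RS'] RX' := AlgEquiv.ofBijective L <| by
    have : ⇑L = ⇑(Algebra.TensorProduct.lift (IsScalarTower.toAlgHom RS RS' RX')
      (IsScalarTower.toAlgHom RS RX RX') fun _ _ => Commute.all _ _) := funext fun z => by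
        induction z using TensorProduct.induction_on with
        | zero => simp
        | add z y hz hy => simp only [map_add, hz, hy]
        | tmul t u => rfl
    rw [this]; exact hbij
  let e : EtRest.vcRing RS' RX' Ω ≃+* EtRest.vcRing RS RX Ω :=
    (((Algebra.TensorProduct.comm RS' RX' Ω).trans
      (Algebra.TensorProduct.congr (AlgEquiv.refl : Ω ≃ₐ[RS'] Ω) P.symm)).trans
        ((Algebra.TensorProduct.cancelBaseChange RS RS' Ω Ω RX).restrictScalars RS')).toRingEquiv.trans
      (Algebra.TensorProduct.comm RS Ω RX).toRingEquiv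
  have hnx : (n : X.residueField x) ≠ 0 := fun h0 => hn (by
    have := congrArg ((pullback.fst f g).residueFieldMap x').hom h0
    rwa [map_natCast, map_zero] at this)
  obtain ⟨H1, ⟨H2⟩⟩ := hf x RS RX hb Ω n hnx
  let E : Spec (CommRingCat.of (EtRest.vcRing RS' RX' Ω)) ≅ Spec (CommRingCat.of (EtRest.vcRing RS RX Ω)) :=
    Scheme.Spec.mapIso e.toCommRingCatIso.op.symm
  refine ⟨fun q hq => ?_, ?_⟩
  · have := H1 q hq
    obtain ⟨h⟩ := nonempty_H_const_addEquiv E (ZMod n) q
    exact h.symm.injective.subsingleton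
  · obtain ⟨h⟩ := nonempty_H_const_addEquiv E (ZMod n) 0
    exact ⟨h.symm.trans H2⟩

end Groth.Agent.StrictHens.Acyclic

namespace Groth.Agent.StrictHens.Acyclic

open Basic

/-- Morphisms which locally satisfy the conclusion of Zariski's main theorem at every prime have integral
strict stalks. -/
theorem hasIntegralStrictStalks_of_forall {S S' : Scheme.{u}} (g : S' ⟶ S)
    (H : ∀ s' : S', ∃ (U : S.Opens) (_ : IsAffineOpen U) (V : S'.Opens) (_ : IsAffineOpen V)
      (e : V ≤ g ⁻¹ᵁ U), s' ∈ V ∧ ∀ (q : Ideal Γ(S', V)) [q.IsPrime],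
        letI := (g.appLE U V e).hom.toAlgebra
        Algebra.ZariskisMainProperty Γ(S, U) q) :
    HasIntegralStrictStalks g := by
  intro s' RS RS' _ _ _ _ _ _ _ _ α hT hc
  obtain ⟨U, hU, V, hV, e, hsV, hz⟩ := H s'
  letI : Algebra Γ(S, U) Γ(S', V) := (g.appLE U V e).hom.toAlgebra
  letI : Algebra Γ(S', V) (S'.presheaf.stalk s') := (S'.presheaf.germ V s' hsV).hom.toAlgebra
  letI : Algebra Γ(S', V) RS' :=
    ((algebraMap (S'.presheaf.stalk s') RS').comp (S'.presheaf.germ V s' hsV).hom).toAlgebra
  letI : Algebra Γ(S, U) RS := (α.comp (S.presheaf.germ U (g s') (e hsV)).hom).toAlgebra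
  have : IsScalarTower Γ(S', V) (S'.presheaf.stalk s') RS' := .of_algebraMap_eq fun _ => rfl
  have : IsLocalization.AtPrime (S'.presheaf.stalk s') (hV.primeIdealOf ⟨s', hsV⟩).asIdeal :=
    hV.isLocalization_stalk ⟨s', hsV⟩
  have hT' : IsSH Γ(S', V) RS' := hT.of_localization (hV.primeIdealOf ⟨s', hsV⟩).asIdeal.primeCompl
  refine QFinite.isIntegral_of_forall hT' fun b => ?_
  refine QFinite.isIntegral_algebraMap (A := Γ(S, U)) (algebraMap Γ(S', V) RS') (fun a => ?_)
    ((maximalIdeal RS').comap (algebraMap Γ(S', V) RS')) (fun r hr => by_contra fun hu => hr hu)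
    (hz _) b
  show algebraMap (S'.presheaf.stalk s') RS' ((S'.presheaf.germ V s' hsV).hom ((g.appLE U V e).hom a)) =
    algebraMap RS RS' (α ((S.presheaf.germ U (g s') (e hsV)).hom a))
  rw [hc]
  refine congrArg _ ?_
  show (g.appLE U V e ≫ S'.presheaf.germ V s' hsV).hom a =
    (S.presheaf.germ U (g s') (e hsV) ≫ g.stalkMap s').hom a
  rw [Scheme.Hom.germ_stalkMap, Scheme.Hom.appLE, Category.assoc, TopCat.Presheaf.germ_res]

theorem hasIntegralStrictStalks_of_isIntegralHom {S S' : Scheme.{u}} (g : S' ⟶ S) [IsIntegralHom g] :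
    HasIntegralStrictStalks g := by
  refine hasIntegralStrictStalks_of_forall g fun s' => ?_
  obtain ⟨_, ⟨U, hU, rfl⟩, hsU, -⟩ := S.isBasis_affineOpens.exists_subset_of_mem_open
    (Set.mem_univ (g s')) isOpen_univ
  refine ⟨U, hU, g ⁻¹ᵁ U, hU.preimage g, le_rfl, hsU, fun q _ => ?_⟩
  letI := (g.appLE U (g ⁻¹ᵁ U) le_rfl).hom.toAlgebra
  have : Algebra.IsIntegral Γ(S, U) Γ(S', g ⁻¹ᵁ U) := ⟨by
    have := IsIntegralHom.isIntegral_app g U hU
    rw [Scheme.Hom.app_eq_appLE] at this
    exact this⟩
  exact Algebra.ZariskisMainProperty.of_isIntegral q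

theorem hasIntegralStrictStalks_of_locallyQuasiFinite {S S' : Scheme.{u}} (g : S' ⟶ S)
    [LocallyOfFiniteType g] [LocallyQuasiFinite g] : HasIntegralStrictStalks g := by
  refine hasIntegralStrictStalks_of_forall g fun s' => ?_
  obtain ⟨_, ⟨U, hU, rfl⟩, hsU, -⟩ := S.isBasis_affineOpens.exists_subset_of_mem_open
    (Set.mem_univ (g s')) isOpen_univ
  obtain ⟨_, ⟨V, hV, rfl⟩, hsV, e⟩ := S'.isBasis_affineOpens.exists_subset_of_mem_open
    (show s' ∈ g ⁻¹ᵁ U from hsU) (g ⁻¹ᵁ U).isOpen
  refine ⟨U, hU, V, hV, e, hsV, fun q _ => ?_⟩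
  letI := (g.appLE U V e).hom.toAlgebra
  have : Algebra.FiniteType Γ(S, U) Γ(S', V) := g.finiteType_appLE hU hV e
  have : Algebra.QuasiFinite Γ(S, U) Γ(S', V) := LocallyQuasiFinite.quasiFinite_appLE hU hV e
  exact Algebra.ZariskisMainProperty.of_finiteType q

end Groth.Agent.StrictHens.Acyclic
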