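import Groth.Agent.StrictHens.Basic
import Groth.Agent.Hensel.StrictBC
import Mathlib.RingTheory.TensorProduct.Maps

/-!
Strict henselizations commute with integral base change.
-/

set_option autoImplicit false
universe u

open IsLocalRing TensorProduct

namespace Groth.Agent.StrictHens.Tensor

open Basic

/-- Residue extensions of integral local maps are algebraic. -/
theorem isAlgebraic_residueField (R T : Type u) [CommRing R] [IsLocalRing R] [CommRing T] [IsLocalRing T]
    [Algebra R T] [IsLocalHom (algebraMap R T)] [Algebra.IsIntegral R T] :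
    Algebra.IsAlgebraic (ResidueField R) (ResidueField T) := ⟨fun z => by
  obtain ⟨x, rfl⟩ := residue_surjective z
  obtain ⟨p, hp, hp0⟩ := Algebra.IsIntegral.isIntegral (R := R) x
  refine ⟨p.map (residue R), (hp.map _).ne_zero, ?_⟩
  rw [Polynomial.aeval_def, Polynomial.eval₂_map]
  have := congrArg (residue T) hp0
  rw [map_zero, Polynomial.hom_eval₂] at this
  exact this⟩

/-- Residue extensions of integral local maps over a separably closed residue field are purely
inseparable. -/
theorem isPurelyInseparable_residueField (R T : Type u) [CommRing R] [IsLocalRing R] [CommRing T]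
    [IsLocalRing T] [Algebra R T] [IsLocalHom (algebraMap R T)] [Algebra.IsIntegral R T]
    [IsSepClosed (ResidueField R)] : IsPurelyInseparable (ResidueField R) (ResidueField T) := by
  have := isAlgebraic_residueField R T
  exact separableClosure.eq_bot_iff.1 (IntermediateField.eq_bot_of_isSepClosed_of_isSeparable _)

/-- A strict henselization of an integral algebra is integral over the strict henselization of the base,
with purely inseparable residue extension. -/
theorem integral_of_isIntegral {A S B T : Type u} [CommRing A] [CommRing S] [IsLocalRing S] [Algebra A S]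
    [CommRing B] [Algebra A B] [Algebra.IsIntegral A B] [CommRing T] [IsLocalRing T] [Algebra B T]
    [Algebra A T] [IsScalarTower A B T] [Algebra S T] [IsScalarTower A S T] [IsLocalHom (algebraMap S T)]
    (hS : IsSH A S) (hT : IsSH B T) :
    Algebra.IsIntegral S T ∧
      Function.Surjective (Algebra.TensorProduct.lift (IsScalarTower.toAlgHom A S T)
        (IsScalarTower.toAlgHom A B T) fun _ _ => Commute.all _ _) := by
  have := hS.henselian
  have := hT.henselian
  have := hS.sepClosed
  let μ := Algebra.TensorProduct.lift (IsScalarTower.toAlgHom A S T) (IsScalarTower.toAlgHom A B T)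
    fun _ _ => Commute.all _ _
  let μS : S ⊗[A] B →ₐ[S] T := Algebra.TensorProduct.lift (Algebra.ofId S T)
    (IsScalarTower.toAlgHom A B T) fun _ _ => Commute.all _ _
  have hμ : ∀ x, μ x = μS x := fun x => by
    induction x using TensorProduct.induction_on with
    | zero => simp
    | add x y hx hy => simp only [map_add, hx, hy]
    | tmul s b => rfl
  let q : Ideal (S ⊗[A] B) := (maximalIdeal T).comap μS
  have hqS : q.comap (algebraMap S (S ⊗[A] B)) = maximalIdeal S := by
    ext s
    show μS (algebraMap S _ s) ∈ maximalIdeal T ↔ _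
    rw [μS.commutes, mem_maximalIdeal, mem_maximalIdeal, mem_nonunits_iff, mem_nonunits_iff]
    exact not_congr (isUnit_map_iff (algebraMap S T) s)
  have hq : q.IsMaximal :=
    Ideal.isMaximal_of_isIntegral_of_isMaximal_comap (R := S) q (hqS ▸ maximalIdeal.isMaximal S)
  let L := Localization.AtPrime q
  have hLsurj : Function.Surjective (algebraMap (S ⊗[A] B) L) := by
    intro z
    obtain ⟨x, y, rfl⟩ := IsLocalization.exists_mk'_eq q.primeCompl z
    let X₀ := Algebra.adjoin S ({(y : S ⊗[A] B)} : Set (S ⊗[A] B))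
    have : Module.Finite S X₀ := ⟨(Submodule.fg_top _).2
      ((Algebra.IsIntegral.isIntegral (y : S ⊗[A] B)).fg_adjoin_singleton)⟩
    let q₀ : Ideal X₀ := q.comap X₀.val
    have : q₀.IsMaximal := by
      refine Ideal.isMaximal_of_isIntegral_of_isMaximal_comap (R := S) q₀ ?_
      have : q₀.comap (algebraMap S X₀) = maximalIdeal S := hqS
      exact this ▸ maximalIdeal.isMaximal S
    obtain ⟨-, -, hsurj⟩ := Hensel.localization_maximal_finite (S := S) X₀ q₀
    let y₀ : X₀ := ⟨y, Algebra.self_mem_adjoin_singleton _ _⟩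
    have hy₀ : y₀ ∈ q₀.primeCompl := y.2
    obtain ⟨z, hz⟩ := hsurj (IsLocalization.mk' _ 1 (⟨y₀, hy₀⟩ : q₀.primeCompl))
    rw [IsLocalization.eq_mk'_iff_mul_eq, ← map_mul, IsLocalization.eq_iff_exists q₀.primeCompl] at hz
    obtain ⟨c, hc⟩ := hz
    refine ⟨x * (z : S ⊗[A] B), ?_⟩
    rw [IsLocalization.eq_mk'_iff_mul_eq, ← map_mul, IsLocalization.eq_iff_exists q.primeCompl]
    refine ⟨⟨(c : X₀), c.2⟩, ?_⟩
    have hc' := congrArg X₀.val hc
    simp only [map_mul, map_one] at hc'
    change ((c : X₀) : S ⊗[A] B) * ((z : S ⊗[A] B) * (y : S ⊗[A] B)) = (c : X₀) * 1 at hc'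
    linear_combination x * hc'
  let ψ : (S ⊗[A] B) →ₐ[S] L := IsScalarTower.toAlgHom S _ L
  have : Algebra.IsIntegral S L := ⟨fun z => by
    obtain ⟨x, rfl⟩ := hLsurj z
    exact (Algebra.IsIntegral.isIntegral (R := S) x).map ψ⟩
  have : HenselianLocalRing L := henselianLocalRing_of_integral (R := S)
  have hu : ∀ y : q.primeCompl, IsUnit (μS y) := fun y => by
    by_contra hy; exact y.2 hy
  let h : L →+* T := IsLocalization.lift hu
  have hh : ∀ x, h (algebraMap _ L x) = μS x := IsLocalization.lift_eq hu
  have : IsLocalHom h := ⟨fun z hz => by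
    obtain ⟨x, rfl⟩ := hLsurj z
    rw [hh] at hz
    exact IsLocalization.map_units L (⟨x, fun hx => hx hz⟩ : q.primeCompl)⟩
  have : IsLocalHom (algebraMap S L) := ⟨fun s hs => by
    have := hs.map h
    rw [IsScalarTower.algebraMap_apply S (S ⊗[A] B) L, hh, μS.commutes] at this
    exact isUnit_of_map_unit _ _ this⟩
  have := isAlgebraic_residueField S L
  have : IsSepClosed (ResidueField L) := Hensel.isSepClosed_of_isAlgebraic (ResidueField S) (ResidueField L)
  let fB : B →+* L := (algebraMap (S ⊗[A] B) L).comp Algebra.TensorProduct.includeRight.toRingHom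
  have hfB : ∀ b, h (fB b) = algebraMap B T b := fun b => by
    show h (algebraMap _ L ((1 : S) ⊗ₜ[A] b)) = _
    rw [hh, show μS ((1 : S) ⊗ₜ[A] b) = algebraMap S T 1 * algebraMap B T b from
      Algebra.TensorProduct.lift_tmul .., map_one, one_mul]
  obtain ⟨k, hk, hkB, hkr⟩ := hT.exists_lift h (RingHom.id T) fB fun b => congrArg _ (hfB b)
  have hhk : h.comp k = RingHom.id T := by
    refine (hT.hom_ext (g := RingHom.id T) (fun b => ?_) fun x => hkr x).symm
    exact ((congrArg h (RingHom.congr_fun hkB b)).trans (hfB b)).symm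
  have hsurj : Function.Surjective μS := fun t => by
    obtain ⟨x, hx⟩ := hLsurj (k t)
    exact ⟨x, by rw [← hh, hx]; exact RingHom.congr_fun hhk t⟩
  refine ⟨⟨fun t => ?_⟩, fun t => ?_⟩
  · obtain ⟨x, rfl⟩ := hsurj t
    exact (Algebra.IsIntegral.isIntegral (R := S) x).map μS
  · obtain ⟨x, rfl⟩ := hsurj t
    exact ⟨x, hμ x⟩

/-- `T ⊗_S U` is the strict henselization of the base change: the canonical map to `W` is bijective
as soon as `W` is a strict henselization of a ring receiving the two rings below `T` and `U`. -/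
theorem bijective_of_isIntegral {B C D S T U W : Type u} [CommRing B] [CommRing C] [CommRing D]
    [CommRing S] [IsLocalRing S] [CommRing T] [IsLocalRing T] [CommRing U] [IsLocalRing U]
    [CommRing W] [IsLocalRing W] [Algebra S T] [Algebra S U] [Algebra S W] [Algebra T W] [Algebra U W]
    [IsScalarTower S T W] [IsScalarTower S U W] [IsLocalHom (algebraMap S T)]
    [IsLocalHom (algebraMap S U)] [IsLocalHom (algebraMap T W)] [IsLocalHom (algebraMap U W)]
    [IsSepClosed (ResidueField S)] [Algebra.IsIntegral S T]
    [Algebra B T] [Algebra C U] [Algebra D W] (hT : IsSH B T) (hU : IsSH C U) (hW : IsSH D W)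
    (gB : B →+* D) (hgB : ∀ b, algebraMap D W (gB b) = algebraMap T W (algebraMap B T b))
    (gC : C →+* D) (hgC : ∀ c, algebraMap D W (gC c) = algebraMap U W (algebraMap C U c))
    (hD : ∀ (h : T ⊗[S] U →+* W), IsLocalRing (T ⊗[S] U) → IsLocalHom h →
      (∀ t, h (t ⊗ₜ[S] (1 : U)) = algebraMap T W t) → (∀ u, h ((1 : T) ⊗ₜ[S] u) = algebraMap U W u) →
      ∃ fD : D →+* T ⊗[S] U, (∀ b, fD (gB b) = algebraMap B T b ⊗ₜ[S] (1 : U)) ∧
        (∀ c, fD (gC c) = (1 : T) ⊗ₜ[S] algebraMap C U c) ∧ ∀ d, h (fD d) = algebraMap D W d) :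
    Function.Bijective (Algebra.TensorProduct.lift (IsScalarTower.toAlgHom S T W)
      (IsScalarTower.toAlgHom S U W) fun _ _ => Commute.all _ _) := by
  have := hT.henselian
  have := hU.henselian
  have := hW.henselian
  have := hU.sepClosed
  have := isPurelyInseparable_residueField S T
  let P := T ⊗[S] U
  letI : Algebra U P := Algebra.TensorProduct.rightAlgebra
  have : Algebra.IsIntegral U P := ⟨fun x => by
    induction x using TensorProduct.induction_on with
    | zero => exact isIntegral_zero
    | add x y hx hy => exact hx.add hy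
    | tmul t u =>
      rw [show (t ⊗ₜ[S] u : P) = (t ⊗ₜ[S] (1 : U)) * algebraMap U P u from by
        show _ = (t ⊗ₜ[S] (1 : U)) * ((1 : T) ⊗ₜ[S] u)
        simp]
      refine IsIntegral.mul ?_ isIntegral_algebraMap
      exact ((Algebra.IsIntegral.isIntegral (R := S) t).map
        (Algebra.TensorProduct.includeLeft : T →ₐ[S] P)).tower_top⟩
  let H := Algebra.TensorProduct.lift (IsScalarTower.toAlgHom S T W)
    (IsScalarTower.toAlgHom S U W) fun _ _ => Commute.all _ _
  have hHT : ∀ t : T, H (t ⊗ₜ[S] (1 : U)) = algebraMap T W t := fun t => by simp [H]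
  have hHU : ∀ u : U, H ((1 : T) ⊗ₜ[S] u) = algebraMap U W u := fun u => by simp [H]
  have hmax : ∀ M : Ideal P, M.IsMaximal → M = (maximalIdeal W).comap H := by
    intro M hM
    let F := P ⧸ M
    letI : Field F := Ideal.Quotient.field M
    let π : P →+* F := Ideal.Quotient.mk M
    have hMU : M.comap (algebraMap U P) = maximalIdeal U :=
      IsLocalRing.eq_maximalIdeal (Ideal.isMaximal_comap_of_isIntegral_of_isMaximal (R := U) M)
    have : IsLocalHom (π.comp (algebraMap U P)) := ⟨fun u hu => by
      by_contra h0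
      have h1 : algebraMap U P u ∈ M := by rw [← Ideal.mem_comap, hMU]; exact h0
      exact hu.ne_zero (Ideal.Quotient.eq_zero_iff_mem.2 h1)⟩
    have hMT : (M.comap (Algebra.TensorProduct.includeLeftRingHom : T →+* P)) = maximalIdeal T := by
      refine IsLocalRing.eq_maximalIdeal (Ideal.isMaximal_of_isIntegral_of_isMaximal_comap (R := S) _ ?_)
      have : (M.comap (Algebra.TensorProduct.includeLeftRingHom : T →+* P)).comap (algebraMap S T) =
          maximalIdeal S := by
        ext s
        show algebraMap S T s ⊗ₜ[S] (1 : U) ∈ M ↔ _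
        rw [show algebraMap S T s ⊗ₜ[S] (1 : U) = algebraMap U P (algebraMap S U s) from
            (Algebra.TensorProduct.tmul_one_eq_one_tmul s : _ = (1 : T) ⊗ₜ[S] algebraMap S U s),
          ← Ideal.mem_comap, hMU, mem_maximalIdeal, mem_maximalIdeal, mem_nonunits_iff, mem_nonunits_iff]
        exact not_congr (isUnit_map_iff (algebraMap S U) s)
      exact this ▸ maximalIdeal.isMaximal S
    have : IsLocalHom (π.comp (Algebra.TensorProduct.includeLeftRingHom : T →+* P)) := ⟨fun t ht => by
      by_contra h0
      have h1 : t ⊗ₜ[S] (1 : U) ∈ M := by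
        show t ∈ M.comap (Algebra.TensorProduct.includeLeftRingHom : T →+* P)
        rw [hMT]; exact h0
      exact ht.ne_zero (Ideal.Quotient.eq_zero_iff_mem.2 h1)⟩
    let αU : ResidueField U →+* F := IsLocalRing.ResidueField.lift (π.comp (algebraMap U P))
    let αT : ResidueField T →+* F :=
      IsLocalRing.ResidueField.lift (π.comp (Algebra.TensorProduct.includeLeftRingHom : T →+* P))
    letI : Algebra (ResidueField U) F := αU.toAlgebra
    have : Algebra.IsAlgebraic (ResidueField U) F := ⟨fun z => by
      obtain ⟨x, rfl⟩ := Ideal.Quotient.mk_surjective z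
      obtain ⟨p, hp, hp0⟩ := Algebra.IsIntegral.isIntegral (R := U) x
      refine ⟨p.map (residue U), (hp.map _).ne_zero, ?_⟩
      rw [Polynomial.aeval_def, Polynomial.eval₂_map]
      have := congrArg π hp0
      rw [map_zero, Polynomial.hom_eval₂] at this
      exact this⟩
    let Ω := AlgebraicClosure (ResidueField W)
    letI : Algebra (ResidueField U) Ω :=
      ((algebraMap (ResidueField W) Ω).comp (ResidueField.map (algebraMap U W))).toAlgebra
    let e : F →ₐ[ResidueField U] Ω := IsAlgClosed.lift
    let β : P →+* Ω := (algebraMap (ResidueField W) Ω).comp ((residue W).comp H.toRingHom)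
    have hβ : e.toRingHom.comp π = β := by
      have hU' : ∀ u, e (π ((1 : T) ⊗ₜ[S] u)) = β ((1 : T) ⊗ₜ[S] u) := fun u => by
        have := e.commutes (residue U u)
        exact this.trans (congrArg (fun w => algebraMap (ResidueField W) Ω (residue W w)) (hHU u)).symm
      have hT' : ∀ t, e (π (t ⊗ₜ[S] (1 : U))) = β (t ⊗ₜ[S] (1 : U)) := fun t => by
        have heq : e.toRingHom.comp αT =
            (algebraMap (ResidueField W) Ω).comp (ResidueField.map (algebraMap T W)) := by
          refine IsPurelyInseparable.injective_comp_algebraMap (ResidueField S) (ResidueField T) Ω ?_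
          refine RingHom.ext fun s => ?_
          obtain ⟨s, rfl⟩ := residue_surjective s
          show e (π (algebraMap S T s ⊗ₜ[S] (1 : U))) =
            algebraMap (ResidueField W) Ω (residue W (algebraMap T W (algebraMap S T s)))
          rw [Algebra.TensorProduct.tmul_one_eq_one_tmul, hU', ← IsScalarTower.algebraMap_apply,
            IsScalarTower.algebraMap_apply S U W]
          exact congrArg (fun w => algebraMap (ResidueField W) Ω (residue W w)) (hHU _)
        exact (RingHom.congr_fun heq (residue T t)).trans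
          (congrArg (fun w => algebraMap (ResidueField W) Ω (residue W w)) (hHT t)).symm
      refine RingHom.ext fun x => ?_
      induction x using TensorProduct.induction_on with
      | zero => simp
      | add x y hx hy => simp only [map_add, hx, hy]
      | tmul t u =>
        rw [show (t ⊗ₜ[S] u : P) = (t ⊗ₜ[S] (1 : U)) * ((1 : T) ⊗ₜ[S] u) by simp, map_mul, map_mul]
        exact congrArg₂ (· * ·) (hT' t) (hU' u)
    ext x
    rw [Ideal.mem_comap, ← residue_eq_zero_iff, ← map_eq_zero (algebraMap (ResidueField W) Ω),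
      ← Ideal.Quotient.eq_zero_iff_mem, ← map_eq_zero e.toRingHom]
    exact iff_of_eq (congrArg (· = 0) (RingHom.congr_fun hβ x))
  have : Nontrivial P := RingHom.domain_nontrivial H.toRingHom
  have hPloc : IsLocalRing P := by
    obtain ⟨M, hM⟩ := Ideal.exists_maximal P
    exact IsLocalRing.of_unique_max_ideal ⟨M, hM, fun M' hM' => (hmax M' hM').trans (hmax M hM).symm⟩
  have hHloc : IsLocalHom H.toRingHom := ⟨fun x hx => by
    by_contra h0
    have h1 : x ∈ maximalIdeal P := h0
    rw [hmax _ (maximalIdeal.isMaximal P)] at h1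
    exact h1 hx⟩
  have : HenselianLocalRing P := henselianLocalRing_of_integral (R := U)
  have : IsLocalHom (algebraMap U P) := ⟨fun u hu => isUnit_of_map_unit (algebraMap U W) u (by
    rw [← hHU]; exact hu.map H.toRingHom)⟩
  have hTP : IsLocalHom (Algebra.TensorProduct.includeLeftRingHom : T →+* P) := ⟨fun t ht =>
    isUnit_of_map_unit (algebraMap T W) t (by rw [← hHT]; exact ht.map H.toRingHom)⟩
  have := isAlgebraic_residueField U P
  have : IsSepClosed (ResidueField P) := Hensel.isSepClosed_of_isAlgebraic (ResidueField U) (ResidueField P)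
  obtain ⟨fD, hfB, hfC, hfD⟩ := hD H.toRingHom hPloc hHloc hHT hHU
  obtain ⟨k, hkloc, hkD, hkr⟩ := hW.exists_lift H.toRingHom (RingHom.id W) fD fun d => congrArg _ (hfD d)
  have hkD' : ∀ d, k (algebraMap D W d) = fD d := RingHom.congr_fun hkD
  have hHk : H.toRingHom.comp k = RingHom.id W := by
    refine (hW.hom_ext (g := RingHom.id W) (fun d => ?_) fun x => hkr x).symm
    exact ((congrArg H (hkD' d)).trans (hfD d)).symm
  have hι : ∀ x y : P, residue W (H x) = residue W (H y) → residue P x = residue P y := fun x y hxy =>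
    (ResidueField.map H.toRingHom).injective hxy
  have hHk' : ∀ w, H (k w) = w := RingHom.congr_fun hHk
  have hkU : ∀ u, k (H ((1 : T) ⊗ₜ[S] u)) = (1 : T) ⊗ₜ[S] u := fun u => by
    refine Eq.trans ?_ (RingHom.congr_fun (hU.hom_ext (g := algebraMap U P)
      (g' := k.comp (algebraMap U W)) (fun c => ?_) fun x => hι _ _ ?_) u).symm
    · rw [hHU]; rfl
    · show (1 : T) ⊗ₜ[S] algebraMap C U c = k (algebraMap U W (algebraMap C U c))
      rw [← hgC, hkD', hfC]
    · show residue W (H (k (algebraMap U W x))) = residue W (H ((1 : T) ⊗ₜ[S] x))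
      rw [hHk', hHU]
  have hkT : ∀ t, k (H (t ⊗ₜ[S] (1 : U))) = t ⊗ₜ[S] (1 : U) := fun t => by
    refine Eq.trans ?_ (RingHom.congr_fun (hT.hom_ext (g := (Algebra.TensorProduct.includeLeftRingHom : T →+* P))
      (g' := k.comp (algebraMap T W)) (fun b => ?_) fun x => hι _ _ ?_) t).symm
    · rw [hHT]; rfl
    · show algebraMap B T b ⊗ₜ[S] (1 : U) = k (algebraMap T W (algebraMap B T b))
      rw [← hgB, hkD', hfB]
    · show residue W (H (k (algebraMap T W x))) = residue W (H (x ⊗ₜ[S] (1 : U)))
      rw [hHk', hHT]
  refine ⟨Function.LeftInverse.injective (g := k) fun x => ?_, fun w => ⟨k w, hHk' w⟩⟩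
  induction x using TensorProduct.induction_on with
  | zero => simp
  | add x y hx hy =>
    show k (H (x + y)) = x + y
    rw [map_add, map_add, hx, hy]
  | tmul t u =>
    show k (H (t ⊗ₜ[S] u)) = t ⊗ₜ[S] u
    rw [show (t ⊗ₜ[S] u : P) = (t ⊗ₜ[S] (1 : U)) * ((1 : T) ⊗ₜ[S] u) by simp, map_mul, map_mul, hkT, hkU]

end Groth.Agent.StrictHens.Tensor
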