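import Groth.Agent.StrictHens.Tensor
import Mathlib.RingTheory.ZariskisMainTheorem

/-!
Strict henselizations of quasi-finite algebras are integral over the strict henselization of the base.
-/

set_option autoImplicit false
universe u

open IsLocalRing TensorProduct

namespace Groth.Agent.StrictHens.QFinite

open Basic

/-- An element of a local ring which is integral over a henselian local ring mapping locally and is a
unit, is a unit of the integral closure. -/
theorem isUnit_mk {S T : Type u} [CommRing S] [HenselianLocalRing S] [CommRing T] [IsLocalRing T]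
    [Algebra S T] [IsLocalHom (algebraMap S T)] (x : integralClosure S T) (hx : IsUnit (x : T)) :
    IsUnit x := by
  let X₀ := Algebra.adjoin S ({(x : T)} : Set T)
  have : Module.Finite S X₀ := ⟨(Submodule.fg_top _).2 (x.2.fg_adjoin_singleton)⟩
  let q₀ : Ideal X₀ := (maximalIdeal T).comap X₀.val
  have hqS : q₀.comap (algebraMap S X₀) = maximalIdeal S := by
    ext s
    show algebraMap S T s ∈ maximalIdeal T ↔ _
    rw [mem_maximalIdeal, mem_maximalIdeal, mem_nonunits_iff, mem_nonunits_iff]
    exact not_congr (isUnit_map_iff (algebraMap S T) s)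
  have hq : q₀.IsMaximal :=
    Ideal.isMaximal_of_isIntegral_of_isMaximal_comap (R := S) q₀ (hqS ▸ maximalIdeal.isMaximal S)
  obtain ⟨-, -, hsurj⟩ := Hensel.localization_maximal_finite (S := S) X₀ q₀
  let x₀ : X₀ := ⟨x, Algebra.self_mem_adjoin_singleton _ _⟩
  have hx₀ : x₀ ∈ q₀.primeCompl := fun h => h hx
  obtain ⟨z, hz⟩ := hsurj (IsLocalization.mk' _ 1 (⟨x₀, hx₀⟩ : q₀.primeCompl))
  rw [IsLocalization.eq_mk'_iff_mul_eq, ← map_mul, IsLocalization.eq_iff_exists q₀.primeCompl] at hz
  obtain ⟨c, hc⟩ := hz
  have hcu : IsUnit ((c : X₀) : T) := by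
    by_contra hu
    exact c.2 hu
  have hc' := congrArg X₀.val hc
  simp only [map_mul, map_one] at hc'
  change ((c : X₀) : T) * ((z : T) * (x : T)) = ((c : X₀) : T) * 1 at hc'
  have hz1 : (z : T) * (x : T) = 1 := hcu.mul_left_cancel hc'
  have hzint : IsIntegral S (z : T) := (Algebra.IsIntegral.isIntegral (R := S) z).map X₀.val
  exact isUnit_iff_exists_inv'.2 ⟨⟨(z : T), hzint⟩, Subtype.ext hz1⟩

/-- A strict henselization all of whose generators are integral over `S` is integral over `S`. -/
theorem isIntegral_of_forall {S B T : Type u} [CommRing S] [HenselianLocalRing S]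
    [IsSepClosed (ResidueField S)] [CommRing B] [CommRing T] [IsLocalRing T] [Algebra B T] [Algebra S T]
    [IsLocalHom (algebraMap S T)] (hT : IsSH B T) (hb : ∀ b, IsIntegral S (algebraMap B T b)) :
    Algebra.IsIntegral S T := by
  have := hT.henselian
  let T' := integralClosure S T
  have hu : ∀ x : T', IsUnit (x : T) → IsUnit x := fun x => isUnit_mk x
  have : IsLocalRing T' := IsLocalRing.of_nonunits_add fun a b ha hb' hab =>
    (IsLocalRing.nonunits_add (a := (a : T)) (b := (b : T)) (fun h => ha (hu a h)) (fun h => hb' (hu b h)))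
      (hab.map T'.val)
  have : HenselianLocalRing T' := henselianLocalRing_of_integral (R := S)
  have : IsLocalHom T'.val.toRingHom := ⟨fun x hx => hu x hx⟩
  have : IsLocalHom (algebraMap S T') := ⟨fun s hs =>
    isUnit_of_map_unit (algebraMap S T) s (hs.map T'.val)⟩
  have := Tensor.isAlgebraic_residueField S T'
  have : IsSepClosed (ResidueField T') := Hensel.isSepClosed_of_isAlgebraic (ResidueField S) (ResidueField T')
  let fB : B →+* T' := (algebraMap B T).codRestrict T'.toSubring hb
  obtain ⟨k, -, hkB, hkr⟩ := hT.exists_lift T'.val.toRingHom (RingHom.id T) fB fun b => rfl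
  have hk : RingHom.id T = T'.val.toRingHom.comp k := by
    refine hT.hom_ext (fun b => ?_) fun x => hkr x
    exact (congrArg Subtype.val (RingHom.congr_fun hkB b)).symm
  refine ⟨fun t => ?_⟩
  have ht : t = (k t : T) := RingHom.congr_fun hk t
  rw [ht]
  exact (k t).2

/-- Zariski's main theorem: images of a quasi-finite algebra in a local ring are integral over a
henselian local ring dominated by it. -/
theorem isIntegral_algebraMap {A B S T : Type u} [CommRing A] [CommRing B] [Algebra A B] [CommRing S]
    [HenselianLocalRing S] [Algebra A S] [CommRing T] [IsLocalRing T] [Algebra S T]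
    [IsLocalHom (algebraMap S T)] (φ : B →+* T)
    (hc : ∀ a, φ (algebraMap A B a) = algebraMap S T (algebraMap A S a))
    (q : Ideal B) (hq : ∀ r, r ∉ q → IsUnit (φ r))
    (H : Algebra.ZariskisMainProperty A q) (b : B) : IsIntegral S (φ b) := by
  obtain ⟨r, hrq, hr, hm⟩ := Algebra.zariskisMainProperty_iff.1 H
  have hmap : ∀ x : B, IsIntegral A x → IsIntegral S (φ x) := fun x hx => by
    obtain ⟨p, hp, hp0⟩ := hx
    refine ⟨p.map (algebraMap A S), hp.map _, ?_⟩
    rw [Polynomial.eval₂_map, show (algebraMap S T).comp (algebraMap A S) = φ.comp (algebraMap A B) from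
      RingHom.ext fun a => (hc a).symm, ← Polynomial.hom_eval₂, hp0, map_zero]
  obtain ⟨m, hmb⟩ := hm b
  obtain ⟨u, hu⟩ := isUnit_mk (⟨φ r, hmap r hr⟩ : integralClosure S T) (hq r hrq)
  have h1 : φ r * ((u⁻¹ : (integralClosure S T)ˣ) : integralClosure S T).1 = 1 := by
    have := congrArg Subtype.val u.mul_inv
    rwa [Subalgebra.coe_mul, hu] at this
  have h2 : φ b = φ (r ^ m * b) * ((u⁻¹ : (integralClosure S T)ˣ) : integralClosure S T).1 ^ m := by
    rw [map_mul, map_pow, mul_right_comm, ← mul_pow, h1, one_pow, one_mul]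
  rw [h2]
  exact (hmap _ hmb).mul ((((u⁻¹ : (integralClosure S T)ˣ) : integralClosure S T).2).pow m)

end Groth.Agent.StrictHens.QFinite

namespace Groth.Agent.StrictHens.QFinite

open Basic

/-- If `B' ⊆ B` becomes an equality after inverting some `r ∉ q`, the local ring of `B` at `q` is a
localization of `B'`. -/
theorem isLocalization_comap {A B : Type u} [CommRing A] [CommRing B] [Algebra A B] (B' : Subalgebra A B)
    (q : Ideal B) [q.IsPrime] (r : B') (hr : (r : B) ∉ q)
    (hsurj : Function.Surjective (Localization.awayMap B'.val.toRingHom r))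
    (Bl : Type u) [CommRing Bl] [Algebra B Bl] [IsLocalization.AtPrime Bl q]
    : IsLocalization.AtPrime Bl (q.comap B'.val) := by
  have hw : ∀ b : B, ∃ m : ℕ, ∃ b' : B', (r : B) ^ m * b = b' := fun b => by
    obtain ⟨a, m, hm⟩ := Localization.awayMap_surjective_iff.1 hsurj b
    exact ⟨m, a, hm.symm⟩
  refine ⟨⟨fun y => ?_, fun z => ?_, fun {x y} hxy => ?_⟩⟩
  · rw [IsScalarTower.algebraMap_apply B' B Bl]
    exact IsLocalization.map_units (M := q.primeCompl) Bl ⟨(y : B'), y.2⟩
  · obtain ⟨b, s, rfl⟩ := IsLocalization.exists_mk'_eq q.primeCompl z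
    obtain ⟨n, b', hb⟩ := hw b
    obtain ⟨m, s', hs⟩ := hw s
    have hs'q : (r ^ n * s' : B') ∈ (q.comap B'.val).primeCompl := by
      show (r : B) ^ n * (s' : B) ∉ q
      rw [← hs]
      exact q.primeCompl.mul_mem (pow_mem (show (r : B) ∈ q.primeCompl from hr) n)
        (q.primeCompl.mul_mem (pow_mem (show (r : B) ∈ q.primeCompl from hr) m) s.2)
    refine ⟨⟨r ^ m * b', ⟨_, hs'q⟩⟩, ?_⟩
    rw [IsScalarTower.algebraMap_apply B' B Bl, IsScalarTower.algebraMap_apply B' B Bl]
    show IsLocalization.mk' Bl b s * algebraMap B Bl ((r : B) ^ n * (s' : B)) =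
      algebraMap B Bl ((r : B) ^ m * (b' : B))
    rw [← hs, ← hb, show (r : B) ^ n * ((r : B) ^ m * (s : B)) = (r : B) ^ n * (r : B) ^ m * (s : B) by ring,
      map_mul, mul_comm (algebraMap B Bl _) _, ← mul_assoc, IsLocalization.mk'_spec, ← map_mul]
    congr 1
    ring
  · rw [IsScalarTower.algebraMap_apply B' B Bl, IsScalarTower.algebraMap_apply B' B Bl,
      IsLocalization.eq_iff_exists q.primeCompl] at hxy
    obtain ⟨c, hc⟩ := hxy
    obtain ⟨n, c', hc'⟩ := hw c
    refine ⟨⟨c', ?_⟩, Subtype.ext ?_⟩
    · show (c' : B) ∉ q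
      rw [← hc']
      exact q.primeCompl.mul_mem (pow_mem (show (r : B) ∈ q.primeCompl from hr) n) c.2
    · show (c' : B) * (x : B) = (c' : B) * (y : B)
      change (c : B) * (x : B) = (c : B) * (y : B) at hc
      rw [← hc', mul_assoc, mul_assoc, hc]

end Groth.Agent.StrictHens.QFinite
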